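import Cfsg.Agent.H775.PQL.Clif
import Cfsg.Agent.KFacts.TwF4.Irr
import Cfsg.Agent.KFacts.TwF4.TorFix
import Mathlib.GroupTheory.FiniteAbelian.Duality
import Mathlib.RingTheory.RootsOfUnity.AlgebraicallyClosed
import Mathlib.Analysis.Complex.Polynomial.Basic

/-!
# S4612, row `²F₄`: the primes dividing `q - 1` (helper355)

`H` the parabolic subgroup `N(Z_4) = PL T`, `ff : H → Fˣ` its action on `Z_4`; for a character `τ` of `Fˣ` of order a power of
the odd prime `p` the character `τ ∘ ff` satisfies the hypotheses of the linear test.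
-/

set_option autoImplicit false

open Cfsg

namespace Cfsg.Agent.H355.TF

open Cfsg.Agent.SplitTwo Cfsg.Agent.SplitTwo.ZS Cfsg.Agent.TitsThree.RankTwoZ Cfsg.Agent.KFacts.TwF4
open Cfsg.Agent.KFacts.TwF4.Arc Cfsg.Agent.KFacts.TwF4.Inv Cfsg.Agent.KFacts.TwF4.SylU
open Cfsg.Agent.KFacts.TwF4.Irr
open Cfsg.Agent.H317.PQ

universe u

/-- a character of `p`-power order -/
theorem exists_char {A : Type*} [CommGroup A] [Finite A] {p : ℕ} (hp : p.Prime) (hA : p ∣ Nat.card A) :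
    ∃ τ : A →* ℂˣ, (∀ v, ∃ k : ℕ, τ v ^ p ^ k = 1) ∧ ∃ v, τ v ≠ 1 := by
  have : Fact p.Prime := ⟨hp⟩
  obtain ⟨a, ha⟩ := exists_prime_orderOf_dvd_card' p hA
  have ha1 : a ≠ 1 := by
    rintro rfl
    rw [orderOf_one] at ha
    exact hp.one_lt.ne ha
  have : NeZero (Monoid.exponent A : ℂ) := ⟨by exact_mod_cast Monoid.exponent_ne_zero_of_finite⟩
  obtain ⟨φ, hφ⟩ := CommGroup.exists_apply_ne_one_of_hasEnoughRootsOfUnity A ℂ ha1
  set n := Nat.card A / p ^ (Nat.card A).factorization p with hn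
  have hcop : Nat.Coprime p n := Nat.coprime_ordCompl hp Nat.card_pos.ne'
  refine ⟨(powMonoidHom n).comp φ, fun v => ⟨(Nat.card A).factorization p, ?_⟩, a, ?_⟩
  · show (φ v ^ n) ^ _ = 1
    rw [← pow_mul, mul_comm, Nat.ordProj_mul_ordCompl_eq_self, ← map_pow, pow_card_eq_one', map_one]
  · show φ a ^ n ≠ 1
    intro h
    apply hφ
    have h1 : φ a ^ p = 1 := by rw [← map_pow, ← ha, pow_orderOf_eq_one, map_one]
    have h2 : orderOf (φ a) ∣ Nat.gcd p n := Nat.dvd_gcd (orderOf_dvd_of_pow_eq_one h1) (orderOf_dvd_of_pow_eq_one h)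
    rw [hcop] at h2
    exact orderOf_eq_one_iff.1 (Nat.dvd_one.1 h2)

section

variable {F : Type*} [Field F] {σ : F →+* F} {G : Type u} [Group G] (S : Full σ G)

/-- the parabolic subgroup `N(Z_4)` -/
def H : Subgroup G where
  carrier := {g | ∃ y ∈ S.PL, ∃ t ∈ S.T, g = y * t}
  one_mem' := ⟨1, one_mem _, 1, one_mem _, (mul_one 1).symm⟩
  mul_mem' := by
    rintro _ _ ⟨y, hy, t, ht, rfl⟩ ⟨y', hy', t', ht', rfl⟩
    exact ⟨y * (t * y' * t⁻¹), mul_mem hy (S.T_conj_J ht hy'), t * t', mul_mem ht ht', by group⟩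
  inv_mem' := by
    rintro _ ⟨y, hy, t, ht, rfl⟩
    exact ⟨t⁻¹ * y⁻¹ * t⁻¹⁻¹, S.T_conj_J (inv_mem ht) (inv_mem hy), t⁻¹, inv_mem ht, by group⟩

theorem PL_le : S.PL ≤ H S := fun y hy => ⟨y, hy, 1, one_mem _, (mul_one y).symm⟩

theorem T_le : S.T ≤ H S := fun t ht => ⟨1, one_mem _, t, ht, (one_mul t).symm⟩

theorem U_le : J S.XZ 1 8 ≤ S.PL := J_mono (by norm_num) le_rfl

/-- `g` acts on `Z_4` as multiplication by `κ σ(κ)` -/
def Pk (g : G) (κ : Fˣ) : Prop := ∀ u, g * S.e 2 0 u * g⁻¹ = S.e 2 0 ((κ : F) * σ κ * u)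

variable {S}

theorem pk_T (c d : Fˣ) : Pk S (S.h c d) (chE σ 2 c d) := by
  intro u
  rw [S.h_e, mul_zero]

theorem pk_PL {y : G} (hy : y ∈ S.PL) : Pk S y 1 := by
  intro u
  rw [Units.val_one, map_one, one_mul, one_mul, S.comm_PL hy ⟨u, rfl⟩, mul_inv_cancel_right]

theorem Pk.mul {g g' : G} {κ κ' : Fˣ} (h : Pk S g κ) (h' : Pk S g' κ') : Pk S (g * g') (κ * κ') := by
  intro u
  have e1 : g * g' * S.e 2 0 u * (g * g')⁻¹ = g * (g' * S.e 2 0 u * g'⁻¹) * g⁻¹ := by group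
  rw [e1, h', h]
  congr 1
  push_cast
  rw [map_mul]
  ring

theorem Pk.unique {g : G} {κ κ' : Fˣ} (h : Pk S g κ) (h' : Pk S g κ') : κ = κ' := by
  have h1 := (S.injE 2 _ _ _ _ ((h 1).symm.trans (h' 1))).2
  rw [mul_one, mul_one] at h1
  have h2 : κ * Units.map (σ : F →* F) κ = κ' * Units.map (σ : F →* F) κ' := Units.ext h1
  have h3 : (κ / κ') * Units.map (σ : F →* F) (κ / κ') = 1 := by
    rw [map_div, div_mul_div_comm, h2, div_self']
  exact div_eq_one.1 (S.unit_eq_one h3)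

theorem Pk.mem {g : G} {κ : Fˣ} (h : Pk S g κ) : g ∈ H S := by
  have h1 : S.e 2 0 (1 : F) ≠ 1 := fun h => one_ne_zero (S.e_eq_one h).2
  obtain ⟨y, hy, t, ht, e⟩ := S.mem_of_conj (z := S.e 2 0 1) (g := g) ⟨1, rfl⟩ h1 (by rw [h 1]; exact ⟨_, rfl⟩)
  exact ⟨y, hy, t, ht, e⟩

theorem exists_pk {g : G} (hg : g ∈ H S) : ∃ κ, Pk S g κ := by
  obtain ⟨y, hy, t, ht, rfl⟩ := hg
  obtain ⟨c, d, rfl⟩ := S.mem_T.1 ht
  exact ⟨_, (pk_PL hy).mul (pk_T c d)⟩

variable (S)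

/-- the character of the parabolic subgroup -/
noncomputable def ff : ↥(H S) →* Fˣ :=
  MonoidHom.mk' (fun g => Classical.choose (exists_pk g.2)) fun g g' =>
    (Classical.choose_spec (exists_pk (g * g').2)).unique
      ((Classical.choose_spec (exists_pk g.2)).mul (Classical.choose_spec (exists_pk g'.2)))

theorem ff_spec (g : ↥(H S)) : Pk S g (ff S g) := Classical.choose_spec (exists_pk g.2)

theorem ff_eq {g : ↥(H S)} {κ : Fˣ} (h : Pk S g κ) : ff S g = κ := (ff_spec S g).unique h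

/-! ### the monomial group -/

theorem dih_conj {w : G} (hw : S.IsDihE w) : ∃ (a : ZMod 8) (μ : Fˣ), ∀ u, w * S.e 2 0 u * w⁻¹ = S.e a 0 ((μ : F) * u) := by
  obtain ⟨c, hc | hc⟩ := hw
  · have ht : S.rot ^ (-c) * w ∈ S.T := by
      show Maps S.R.X _ id
      exact ((S.rot_maps (-c)).mul hc).congr fun k => by
        simp only [Function.comp, id]
        push_cast
        ring
    obtain ⟨c1, d1, h1⟩ := S.mem_T.1 ht
    have e : w = S.rot ^ c * S.h c1 d1 := by rw [h1]; group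
    refine ⟨2 + c, chE σ 2 c1 d1 * Units.map (σ : F →* F) (chE σ 2 c1 d1), fun u => ?_⟩
    have e1 : w * S.e 2 0 u * w⁻¹ = S.rot ^ c * (S.h c1 d1 * S.e 2 0 u * (S.h c1 d1)⁻¹) * (S.rot ^ c)⁻¹ := by
      rw [e]; group
    rw [e1, pk_T c1 d1 u, ← S.ck_apply, S.ck_e]
    rfl
  · have ht : S.n2⁻¹ * S.rot ^ (4 - c) * w ∈ S.T := by
      show Maps S.R.X _ id
      have h2 : Maps S.R.X S.n2⁻¹ (fun k => 8 - k) := S.n2_maps.inv fun k => by ring
      exact ((h2.mul (S.rot_maps (4 - c))).mul hc).congr fun k => by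
        simp only [Function.comp, id]
        push_cast
        ring
    obtain ⟨c1, d1, h1⟩ := S.mem_T.1 ht
    have e : w = S.rot ^ (c - 4) * (S.n2 * S.h c1 d1) := by rw [h1]; group
    refine ⟨2 + (c - 4 : ℤ), chE σ 2 c1 d1 * Units.map (σ : F →* F) (chE σ 2 c1 d1), fun u => ?_⟩
    have e1 : w * S.e 2 0 u * w⁻¹ = S.rot ^ (c - 4) * (S.n2 * (S.h c1 d1 * S.e 2 0 u * (S.h c1 d1)⁻¹) * S.n2⁻¹) *
        (S.rot ^ (c - 4))⁻¹ := by
      rw [e]; group
    have e2 : (4 : ZMod 8) - 2 = 2 := by decide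
    rw [e1, pk_T c1 d1 u, S.n2_e, e2, ← S.ck_apply, S.ck_e]
    rfl

variable {S}

theorem pk_conj {w : G} {a : ZMod 8} {μ : Fˣ} (h : ∀ u, w * S.e 2 0 u * w⁻¹ = S.e a 0 ((μ : F) * u)) (c d : Fˣ) :
    Pk S (w⁻¹ * S.h c d * w) (chE σ a c d) := by
  intro u
  have e1 : w⁻¹ * S.h c d * w * S.e 2 0 u * (w⁻¹ * S.h c d * w)⁻¹ =
      w⁻¹ * (S.h c d * (w * S.e 2 0 u * w⁻¹) * (S.h c d)⁻¹) * w := by group
  have e2 : S.e a 0 ((chE σ a c d : F) * σ (chE σ a c d : F) * ((μ : F) * u)) =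
      w * S.e 2 0 ((chE σ a c d : F) * σ (chE σ a c d : F) * u) * w⁻¹ := by
    rw [h]
    congr 1
    ring
  rw [e1, h, S.h_e, mul_zero, e2]
  group

/-- the characters of the torus are different -/
theorem exists_sep [Finite F] (hS : ∀ x : F, σ (σ x) = x ^ 2) (τ : Fˣ →* ℂˣ) (h1 : ∃ v, τ v ≠ 1)
    (h2 : ∀ v, τ v * τ v = 1 → τ v = 1) {a : ZMod 8} (ha : a ≠ 2) : ∃ c d : Fˣ, τ (chE σ 2 c d) ≠ τ (chE σ a c d) := by
  obtain ⟨v, hv⟩ := h1
  have hinj : Function.Injective (Units.map (σ : F →* F)) := fun a b h =>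
    Units.ext (σ.injective (congrArg Units.val h))
  have hvi : τ v⁻¹ ≠ 1 := by rw [map_inv]; exact inv_ne_one.2 hv
  have hsq : ∀ x : Fˣ, Units.map (σ : F →* F) (Units.map (σ : F →* F) x) = x ^ 2 := map_map σ hS
  -- the values at `h (σ d) d`
  have h2c : ∀ d : Fˣ, chE σ 2 (Units.map (σ : F →* F) d) d = 1 := fun d => by rw [chE_two, div_self']
  have key : ∀ n : Fin 8, (n : ZMod 8) ≠ 2 → ∃ c d : Fˣ, τ (chE σ 2 c d) ≠ τ (chE σ (n : ZMod 8) c d) := by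
    intro n hn
    fin_cases n
    · obtain ⟨d, hd⟩ := Finite.surjective_of_injective hinj v
      refine ⟨Units.map (σ : F →* F) d, d, ?_⟩
      rw [h2c, map_one]
      show (1 : ℂˣ) ≠ τ (chE σ 0 (Units.map (σ : F →* F) d) d)
      rw [chE_zero, hd]
      exact hv.symm
    · refine ⟨Units.map (σ : F →* F) v, v, ?_⟩
      rw [h2c, map_one]
      show (1 : ℂˣ) ≠ τ (chE σ 1 (Units.map (σ : F →* F) v) v)
      rw [chE_one]
      exact hv.symm
    · exact absurd rfl hn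
    · refine ⟨Units.map (σ : F →* F) v, v, ?_⟩
      rw [h2c, map_one]
      show (1 : ℂˣ) ≠ τ (chE σ 3 (Units.map (σ : F →* F) v) v)
      have e : v / v ^ 2 = v⁻¹ := by rw [pow_two, div_mul_eq_div_div, div_self', one_div]
      rw [chE_three, hsq, e]
      exact hvi.symm
    · obtain ⟨d, hd⟩ := Finite.surjective_of_injective hinj v
      refine ⟨Units.map (σ : F →* F) d, d, ?_⟩
      rw [h2c, map_one]
      show (1 : ℂˣ) ≠ τ (chE σ 4 (Units.map (σ : F →* F) d) d)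
      rw [chE_four, hd]
      exact hvi.symm
    · refine ⟨Units.map (σ : F →* F) v, v, ?_⟩
      rw [h2c, map_one]
      show (1 : ℂˣ) ≠ τ (chE σ 5 (Units.map (σ : F →* F) v) v)
      rw [chE_five]
      exact hvi.symm
    · refine ⟨v⁻¹, 1, ?_⟩
      show τ (chE σ 2 v⁻¹ 1) ≠ τ (chE σ 6 v⁻¹ 1)
      rw [chE_two, chE_six, map_one, div_one, one_div, inv_inv, map_inv]
      intro h
      exact hv (h2 v (by nth_rw 1 [h]; rw [inv_mul_cancel]))
    · refine ⟨Units.map (σ : F →* F) v, v, ?_⟩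
      rw [h2c, map_one]
      show (1 : ℂˣ) ≠ τ (chE σ 7 (Units.map (σ : F →* F) v) v)
      have e : v ^ 2 / v = v := by rw [pow_two, mul_div_assoc, div_self', mul_one]
      rw [chE_seven, hsq, e]
      exact hv.symm
  exact key a ha

end

theorem index_pow {K : Type*} [Group K] [Finite K] {p : ℕ} [Fact p.Prime] (C Q : Subgroup K) (hQ : IsPGroup p Q)
    (h : ∀ x : K, ∃ q ∈ Q, ∃ c ∈ C, x = q * c) : ∃ n, C.index = p ^ n := by
  obtain ⟨n, hn⟩ := hQ.card_orbit (α := K ⧸ C) (QuotientGroup.mk 1)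
  refine ⟨n, ?_⟩
  rw [← hn]
  have e : MulAction.orbit Q (QuotientGroup.mk 1 : K ⧸ C) = Set.univ := by
    rw [Set.eq_univ_iff_forall]
    intro y
    obtain ⟨x, rfl⟩ := QuotientGroup.mk_surjective y
    obtain ⟨q, hq, c, hc, rfl⟩ := h x
    refine ⟨⟨q, hq⟩, ?_⟩
    show (QuotientGroup.mk (q * 1) : K ⧸ C) = QuotientGroup.mk (q * c)
    rw [QuotientGroup.eq, mul_one, inv_mul_cancel_left]
    exact hc
  rw [e, Subgroup.index]
  exact Nat.card_congr (Equiv.Set.univ _).symm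

section

variable {F : Type*} [Field F] {σ : F →+* F} {G : Type u} [Group G] (S : Full σ G)

/-- the elements `h 1 d` commute with `L4 T` -/
theorem comm_h (d : Fˣ) {x : G} (hx : x ∈ L4 S ⊔ S.T) : x * S.h 1 d = S.h 1 d * x := by
  have h1 : L4 S ⊔ S.T ≤ Subgroup.centralizer {S.h 1 d} := by
    refine sup_le (sup_le ?_ ?_) ?_
    · intro x hx
      obtain ⟨p, u, rfl⟩ := (mem_X0 S).1 hx
      rw [Subgroup.mem_centralizer_singleton_iff]
      have h := S.h_e 1 d 0 p u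
      rw [chE_zero, Units.val_one, map_one, one_mul, one_mul, one_mul, mul_inv_eq_iff_eq_mul] at h
      exact h.symm
    · intro x hx
      obtain ⟨p, u, rfl⟩ := (mem_X8 S).1 hx
      rw [Subgroup.mem_centralizer_singleton_iff]
      have h := S.h_e 1 d 4 p u
      rw [chE_four, inv_one, Units.val_one, map_one, one_mul, one_mul, one_mul, mul_inv_eq_iff_eq_mul] at h
      exact h.symm
    · intro x hx
      rw [Subgroup.mem_centralizer_singleton_iff]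
      exact S.T_comm hx (S.mem_T.2 ⟨_, _, rfl⟩)
  exact Subgroup.mem_centralizer_singleton_iff.1 (h1 hx)

theorem H_split {g : G} (hg : g ∈ H S) : ∃ q ∈ S.Q, ∃ x ∈ L4 S ⊔ S.T, g = q * x := by
  obtain ⟨y, hy, t, ht, rfl⟩ := hg
  obtain ⟨l, hl, q, hq, e⟩ := PL_split S (inv_mem hy)
  refine ⟨q⁻¹, inv_mem hq, l⁻¹ * t, mul_mem (Subgroup.mem_sup_left (inv_mem hl)) (Subgroup.mem_sup_right ht), ?_⟩
  have e2 : y = (l * q)⁻¹ := by rw [← e, inv_inv]
  rw [e2]; group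

variable [Finite F] [Finite G]

/-- **the primes dividing `q - 1`** -/
theorem not_same (hR : S.R.p = 2) {p l : ℕ} (hp : p.Prime) (hp2 : p ≠ 2) (hl : l.Prime) (hl2 : l ≠ 2) (hpl : p ≠ l)
    (hpF : p ∣ Nat.card F - 1) : ¬ Same p l G := by
  classical
  have hcard : Nat.card Fˣ = Nat.card F - 1 := by
    have := Fintype.ofFinite F
    rw [Nat.card_eq_fintype_card, Nat.card_eq_fintype_card, Fintype.card_units]
  obtain ⟨τ, hτ, v, hv⟩ := exists_char (A := Fˣ) hp (by rw [hcard]; exact hpF)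
  have h2 : ∀ v, τ v * τ v = 1 → τ v = 1 := by
    intro v hv
    obtain ⟨k, hk⟩ := hτ v
    have h3 : orderOf (τ v) ∣ Nat.gcd 2 (p ^ k) :=
      Nat.dvd_gcd (orderOf_dvd_of_pow_eq_one (by rw [pow_two]; exact hv)) (orderOf_dvd_of_pow_eq_one hk)
    have h4 : Nat.Coprime 2 (p ^ k) := Nat.Coprime.pow_right k ((Nat.coprime_primes Nat.prime_two hp).2 hp2.symm)
    rw [h4] at h3
    exact orderOf_eq_one_iff.1 (Nat.dvd_one.1 h3)
  have hinj : Function.Injective (Units.map (σ : F →* F)) := fun a b h =>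
    Units.ext (σ.injective (congrArg Units.val h))
  obtain ⟨d, hd⟩ := Finite.surjective_of_injective hinj v
  have hz : S.h 1 d ∈ H S := T_le S (S.mem_T.2 ⟨_, _, rfl⟩)
  have hfz : ff S ⟨S.h 1 d, hz⟩ = v := by
    refine ff_eq S ?_
    have h := pk_T (S := S) 1 d
    rw [chE_two, div_one, hd] at h
    exact h
  intro hS
  have hN : (⊤ : Subgroup G).Normal := inferInstance
  refine Cfsg.Agent.H775.PQL.clifford_test (Γ := G) (S := G) hl hp hpl.symm (⊤ : Subgroup G)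
    (Subgroup.topEquiv : (⊤ : Subgroup G) ≃* G).toMonoidHom (Subgroup.topEquiv : (⊤ : Subgroup G) ≃* G).surjective
    ?_ (H S) (τ.comp (ff S)) (fun h => hτ _) ?_ ?_ (S.h 1 d) hz (Subgroup.mem_top _) ?_ ?_ hS.symm
  · intro x hx g
    have h1 : (x : G) = 1 := hx
    rw [h1, mul_one, one_mul]
  · intro g hg
    obtain ⟨b, hb, t, ht, w, hw, b', hb', rfl⟩ := S.bruhatE g
    obtain ⟨a, μ, hμ⟩ := dih_conj S hw
    have hbH : b ∈ H S := PL_le S (U_le S hb)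
    have hbH' : b' ∈ H S := PL_le S (U_le S hb')
    have ha : a ≠ 2 := by
      rintro rfl
      apply hg
      have h1 : S.e 2 0 (1 : F) ≠ 1 := fun h => one_ne_zero (S.e_eq_one h).2
      obtain ⟨y, hy, t', ht', e⟩ := S.mem_of_conj (z := S.e 2 0 1) (g := w) ⟨1, rfl⟩ h1 (by rw [hμ 1]; exact ⟨_, rfl⟩)
      exact mul_mem (mul_mem (mul_mem hbH (T_le S ht)) ⟨y, hy, t', ht', e⟩) hbH'
    obtain ⟨c1, d1, hcd⟩ := exists_sep (σ := σ) S.sq τ ⟨v, hv⟩ h2 ha
    have hs : S.h c1 d1 ∈ S.T := S.mem_T.2 ⟨_, _, rfl⟩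
    have hb1 : Pk S b 1 := pk_PL (U_le S hb)
    have hb2 : Pk S b⁻¹ 1 := pk_PL (inv_mem (U_le S hb))
    have hb1' : Pk S b' 1 := pk_PL (U_le S hb')
    have hb2' : Pk S b'⁻¹ 1 := pk_PL (inv_mem (U_le S hb'))
    have k1 : Pk S (b * S.h c1 d1 * b⁻¹) (chE σ 2 c1 d1) := by
      have := (hb1.mul (pk_T c1 d1)).mul hb2
      rwa [one_mul, mul_one] at this
    have k2 : Pk S ((b * t * w * b')⁻¹ * (b * S.h c1 d1 * b⁻¹) * (b * t * w * b')) (chE σ a c1 d1) := by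
      have h3 := (hb2'.mul (pk_conj hμ c1 d1)).mul hb1'
      rw [one_mul, mul_one] at h3
      have e : (b * t * w * b')⁻¹ * (b * S.h c1 d1 * b⁻¹) * (b * t * w * b') =
          b'⁻¹ * (w⁻¹ * S.h c1 d1 * w) * b' := by
        have e2 : t⁻¹ * S.h c1 d1 * t = S.h c1 d1 := by rw [mul_assoc, S.T_comm hs ht, inv_mul_cancel_left]
        calc (b * t * w * b')⁻¹ * (b * S.h c1 d1 * b⁻¹) * (b * t * w * b') =
            b'⁻¹ * (w⁻¹ * (t⁻¹ * S.h c1 d1 * t) * w) * b' := by group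
          _ = _ := by rw [e2]
      rw [e]
      exact h3
    refine ⟨⟨_, k1.mem⟩, k2.mem, ?_⟩
    show τ (ff S _) ≠ τ (ff S _)
    rw [ff_eq S (g := ⟨_, k1.mem⟩) k1, ff_eq S (g := ⟨_, k2.mem⟩) k2]
    exact hcd
  · intro x hx h1
    have h3 : (⟨x, hx⟩ : ↥(H S)) = 1 := Subtype.ext h1
    rw [h3, map_one]
  · show τ (ff S _) ≠ 1
    rw [hfz]
    exact hv
  · have hQ2 : IsPGroup 2 S.Q := isPGroup_J S.zsys8 (two_X S hR) 8 1 7 (by norm_num) (by norm_num)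
    have hQH : S.Q ≤ H S ⊓ ⊤ := fun x hx => ⟨PL_le S (J_mono (by norm_num) (by norm_num) hx), Subgroup.mem_top _⟩
    have : Fact (Nat.Prime 2) := ⟨Nat.prime_two⟩
    obtain ⟨n, hn⟩ := index_pow (p := 2)
      (Subgroup.centralizer ({⟨S.h 1 d, hz, Subgroup.mem_top _⟩} : Set ↥(H S ⊓ ⊤))) (S.Q.subgroupOf (H S ⊓ ⊤))
      (hQ2.of_equiv (Subgroup.subgroupOfEquivOfLe hQH).symm) (by
        rintro ⟨x, hx⟩
        obtain ⟨q, hq, y, hy, rfl⟩ := H_split S hx.1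
        have hyH : y ∈ H S ⊓ ⊤ := by
          have := mul_mem (inv_mem (hQH hq)) hx
          rwa [inv_mul_cancel_left] at this
        refine ⟨⟨q, hQH hq⟩, hq, ⟨y, hyH⟩, ?_, rfl⟩
        rw [Subgroup.mem_centralizer_singleton_iff]
        exact Subtype.ext (comm_h S d hy))
    rw [hn]
    intro hd
    exact hl2 ((Nat.prime_dvd_prime_iff_eq hl Nat.prime_two).1 (hl.dvd_of_dvd_pow hd))

end

end Cfsg.Agent.H355.TF
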